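import Groth.Agent.FmlFun27.Full
import Groth.Agent.S13345
import Groth.Agent.FCompl13.ComplNat
import Groth.Agent.QC70.CohOps
import Groth.Agent.Coh69.ProperOver

/-!
Algebraizable modules: exactness of the inverse image to the completion and the transported operations.
-/

set_option autoImplicit false
set_option maxSynthPendingDepth 6
set_option backward.isDefEq.respectTransparency false
set_option linter.style.haveILetI false

universe u

noncomputable section

open CategoryTheory CategoryTheory.Limits AlgebraicGeometry TopologicalSpace Opposite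

namespace Groth.Agent.FmlFun27

/-- An exact functor carries kernel, image and cokernel to those of an isomorphic arrow. -/
theorem exact_functor_ops {C D : Type*} [Category C] [Category D] [Abelian C] [Abelian D] (P : C ⥤ D)
    [PreservesFiniteLimits P] [PreservesFiniteColimits P] {F G : C} (v : F ⟶ G) {F' G' : D} (u : F' ⟶ G')
    (a : P.obj F ≅ F') (b : P.obj G ≅ G') (w : P.map v ≫ b.hom = a.hom ≫ u) :
    Nonempty (kernel u ≅ P.obj (kernel v)) ∧ Nonempty (Abelian.image u ≅ P.obj (Abelian.image v)) ∧
      Nonempty (cokernel u ≅ P.obj (cokernel v)) := by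
  haveI : PreservesBinaryBiproducts P := preservesBinaryBiproducts_of_preservesBinaryProducts P
  haveI : P.Additive := Functor.additive_of_preserves_binary_products P
  let c : P.obj (cokernel v) ≅ cokernel u :=
    PreservesCokernel.iso P v ≪≫ cokernel.mapIso (P.map v) u a b w
  refine ⟨⟨(PreservesKernel.iso P v ≪≫ kernel.mapIso (P.map v) u a b w).symm⟩, ?_, ⟨c.symm⟩⟩
  have hc : P.map (cokernel.π v) ≫ c.hom = b.hom ≫ cokernel.π u := by
    simp only [c, Iso.trans_hom, ← Category.assoc, PreservesCokernel.π_iso_hom]
    exact cokernel.π_desc _ _ _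
  exact ⟨(PreservesKernel.iso P (cokernel.π v) ≪≫
    kernel.mapIso (P.map (cokernel.π v)) (cokernel.π u) b c hc).symm⟩

variable {X : Scheme.{u}} [IsLocallyNoetherian X] (𝓘 : X.IdealSheafData)
  (hX : (FSch.completionAlong X 𝓘).IsFormal)

/-- The inverse image functor to the completion. -/
abbrev complPull : X.Modules ⥤ FSch.ModF (FSch.completionAlong X 𝓘) hX :=
  (FSch.toSchemeMor (FSch.completionAlong X 𝓘) hX (FSch.completionToX X 𝓘) (FSch.completionToX_comm X 𝓘)).pull

/-- Inverse image to the completion is exact. -/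
theorem exact_complPull :
    PreservesFiniteLimits (complPull 𝓘 hX) ∧ PreservesFiniteColimits (complPull 𝓘 hX) := by
  let T := FSch.toSchemeMor (FSch.completionAlong X 𝓘) hX (FSch.completionToX X 𝓘) (FSch.completionToX_comm X 𝓘)
  haveI : PreservesColimitsOfSize.{0, 0} T.pull := T.adj.leftAdjoint_preservesColimits
  exact ⟨Groth.Agent.S13345.result X 𝓘 hX, ⟨fun _ _ _ => inferInstance⟩⟩

/-- The completion is the inverse image, naturally. -/
theorem exists_complIso :
    ∃ e : ∀ F : {F : X.Modules // Coh.IsCoh F}, (complPull 𝓘 hX).obj F.1 ≅ (FSch.complMod 𝓘 F.1).realMod hX,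
      ∀ (F G : {F : X.Modules // Coh.IsCoh F}) (v : F.1 ⟶ G.1),
        (complPull 𝓘 hX).map v ≫ (e G).hom = (e F).hom ≫ FSch.ModSys.realModMap hX (FSch.complModMap 𝓘 v) := by
  have h : ∀ F : {F : X.Modules // Coh.IsCoh F}, _ := fun F =>
    haveI := isFinitePresentation_coh F.2
    FCompl13.exists_pull_iso_schSys (FSch.completionAlong X 𝓘) hX (FSch.completionToX X 𝓘)
      (FSch.completionToX_comm X 𝓘) (S3854.result X 𝓘) F.1
  choose e he using h
  refine ⟨e, fun F G v => ?_⟩
  have n := FCompl13.schPull_natural_gen (FSch.completionAlong X 𝓘) hX (FSch.completionToX X 𝓘)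
    (FSch.completionToX_comm X 𝓘) v (e F).hom (e G).hom (he F) (he G)
  rw [FCompl13.schSys_completion X 𝓘 v] at n
  exact n

end Groth.Agent.FmlFun27
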