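import Groth.Agent.FmlFun27.Push
import Groth.Agent.LimSES27.Basic
import Groth.Agent.TopCoh49.ClosedPush
import Groth.Agent.Props58.LocFree.Affine

/-!
Cohomology of modules on the completion and of limits of towers.
-/

set_option autoImplicit false
set_option maxSynthPendingDepth 6
set_option backward.isDefEq.respectTransparency false
set_option linter.style.haveILetI false

universe u

noncomputable section

open CategoryTheory CategoryTheory.Limits AlgebraicGeometry TopologicalSpace Opposite Abelian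

namespace Groth.Agent.FmlFun27

open Groth.Agent.TopCoh49

/-- Cohomology in degree zero commutes with limits. -/
theorem bijective_E_zero {Y : TopCat.{u}} (D : ℕᵒᵖ ⥤ CohTop.Ab Y) (U : Opens Y) :
    Function.Injective (fun (x : E (limit D) 0 U) (n : ℕ) => emap (limit.π D (op n)) 0 U x) ∧
      ∀ ξ : ∀ n, E (ML41.obF D n) 0 U, (∀ n, ML41.eTr D 0 U n (ξ (n + 1)) = ξ n) →
        ∃ η : E (limit D) 0 U, ∀ n, emap (limit.π D (op n)) 0 U η = ξ n := by
  constructor
  · intro x y h
    obtain ⟨f, rfl⟩ := (Ext.mk₀_bijective _ _).surjective x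
    obtain ⟨g, rfl⟩ := (Ext.mk₀_bijective _ _).surjective y
    congr 1
    refine limit.hom_ext fun j => (Ext.mk₀_bijective _ _).injective ?_
    obtain ⟨n⟩ := j
    have := congrFun h n
    change (Ext.mk₀ f).comp (Ext.mk₀ _) (add_zero 0) = (Ext.mk₀ g).comp (Ext.mk₀ _) (add_zero 0) at this
    rwa [Ext.mk₀_comp_mk₀, Ext.mk₀_comp_mk₀] at this
  · intro ξ hξ
    choose f hf using fun n => (Ext.mk₀_bijective (freeU U) (ML41.obF D n)).surjective (ξ n)
    let c : Cone D :=
      { pt := freeU U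
        π := NatTrans.ofOpSequence f fun n => by
          refine (Category.id_comp _).trans ((Ext.mk₀_bijective _ _).injective ?_)
          rw [← Ext.mk₀_comp_mk₀, hf, hf]
          exact (hξ n).symm }
    refine ⟨Ext.mk₀ (limit.lift D c), fun n => ?_⟩
    change (Ext.mk₀ _).comp (Ext.mk₀ _) (add_zero 0) = ξ n
    rw [Ext.mk₀_comp_mk₀, limit.lift_π]
    exact hf n

variable {X : Scheme.{u}}

/-- Functoriality of cohomology. -/
def hmapM {M N : X.Modules} (φ : M ⟶ N) (p : ℕ) : Coh.HH X M p →+ Coh.HH X N p :=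
  Sheaf.H.map ((SheafOfModules.toSheaf.{u} X.ringCatSheaf).map φ) p

theorem hmapM_comp {M N P : X.Modules} (φ : M ⟶ N) (ψ : N ⟶ P) (p : ℕ) (x : Coh.HH X M p) :
    hmapM ψ p (hmapM φ p x) = hmapM (φ ≫ ψ) p x := by
  unfold hmapM
  rw [Functor.map_comp, Sheaf.H.map_comp_apply]

theorem hmapM_id {M : X.Modules} (p : ℕ) (x : Coh.HH X M p) : hmapM (𝟙 M) p x = x := by
  unfold hmapM
  rw [show (SheafOfModules.toSheaf.{u} X.ringCatSheaf).map (𝟙 M) = 𝟙 (Coh.toAb M) from
    (SheafOfModules.toSheaf.{u} X.ringCatSheaf).map_id M]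
  exact Sheaf.H.map_id_apply _

/-- Cohomology is invariant under isomorphisms. -/
theorem hh_congr {M N : X.Modules} (e : M ≅ N) (p : ℕ) : Nonempty (Coh.HH X M p ≃+ Coh.HH X N p) :=
  ⟨{ toFun := hmapM e.hom p
     invFun := hmapM e.inv p
     left_inv := fun x => by rw [hmapM_comp, e.hom_inv_id]; exact hmapM_id p x
     right_inv := fun x => by rw [hmapM_comp, e.inv_hom_id]; exact hmapM_id p x
     map_add' := map_add _ }⟩

/-- The components of the cohomology of a limit. -/
def limComp (G : ℕᵒᵖ ⥤ X.Modules) (p : ℕ) :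
    Coh.HH X (limit G) p →+ ∀ n, Coh.HH X (G.obj (op n)) p :=
  AddMonoidHom.pi fun n => hmapM (limit.π G (op n)) p

theorem limComp_compat (G : ℕᵒᵖ ⥤ X.Modules) (p : ℕ) (x : Coh.HH X (limit G) p) (n : ℕ) :
    hmapM (G.map (homOfLE (Nat.le_succ n)).op) p (limComp G p x (n + 1)) = limComp G p x n :=
  (hmapM_comp _ _ p x).trans (congrArg (fun φ => hmapM φ p x) (limit.w G (homOfLE (Nat.le_succ n)).op))

/-- In degree zero the cohomology of a limit is the limit. -/
theorem limComp_zero (G : ℕᵒᵖ ⥤ X.Modules) :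
    Function.Injective (limComp G 0) ∧
      ∀ y : ∀ n, Coh.HH X (G.obj (op n)) 0,
        (∀ n, hmapM (G.map (homOfLE (Nat.le_succ n)).op) 0 (y (n + 1)) = y n) → ∃ x, limComp G 0 x = y := by
  let F := LimSES27.towerAb G
  obtain ⟨hinj, hsurj⟩ := bijective_E_zero F (⊤ : Opens X.toPresheafedSpace.carrier)
  obtain ⟨ε, hε⟩ := LimSES27.exists_limIso G
  let L : Coh.HH X (limit G) 0 ≃+ E (limit F) 0 ⊤ :=
    (HEquivTop (Coh.toAb (limit G)) 0).trans
      { toFun := emap ε.hom 0 ⊤
        invFun := emap ε.inv 0 ⊤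
        left_inv := fun x => by
          rw [ML41.emap_comp, ε.hom_inv_id]
          exact Ext.comp_mk₀_id x
        right_inv := fun x => by
          rw [ML41.emap_comp, ε.inv_hom_id]
          exact Ext.comp_mk₀_id x
        map_add' := map_add _ }
  have hL : ∀ (x : Coh.HH X (limit G) 0) (n : ℕ),
      emap (limit.π F (op n)) 0 ⊤ (L x) = HEquivTop (Coh.toAb (G.obj (op n))) 0 (limComp G 0 x n) := by
    intro x n
    change emap (limit.π F (op n)) 0 ⊤ (emap ε.hom 0 ⊤ _) = _
    rw [ML41.emap_comp, hε n]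
    exact (HEquivTop_map _ 0 x).symm
  refine ⟨fun x x' h => L.injective (hinj (funext fun n => ?_)), fun y hy => ?_⟩
  · exact (hL x n).trans ((congrArg (HEquivTop (Coh.toAb (G.obj (op n))) 0) (congrFun h n)).trans (hL x' n).symm)
  · obtain ⟨η, hη⟩ := hsurj (fun n => HEquivTop (Coh.toAb (G.obj (op n))) 0 (y n)) fun n =>
      (HEquivTop_map _ 0 (y (n + 1))).symm.trans (congrArg (HEquivTop (Coh.toAb (G.obj (op n))) 0) (hy n))
    refine ⟨L.symm η, funext fun n => (HEquivTop (Coh.toAb (G.obj (op n))) 0).injective ?_⟩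
    exact (hL _ n).symm.trans ((congrArg _ (L.apply_symm_apply η)).trans (hη n))

/-- If `R¹lim` of the cohomology one degree lower vanishes, cohomology of a limit is the limit. -/
theorem limComp_bijective (G : ℕᵒᵖ ⥤ X.Modules) (hq : ∀ n : ℕ, (G.obj (op n)).IsQuasicoherent)
    (he : ∀ n, Epi (Formal27.tr G n))
    (h1 : ∀ p, Subsingleton (Formal2.limOne (fun n => Coh.HH X (G.obj (op n)) p) (Formal2.HHsysMap G p)))
    (p : ℕ) : Function.Injective (limComp G p) ∧
      ∀ y : ∀ n, Coh.HH X (G.obj (op n)) p,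
        (∀ n, hmapM (G.map (homOfLE (Nat.le_succ n)).op) p (y (n + 1)) = y n) → ∃ x, limComp G p x = y := by
  cases p with
  | zero => exact limComp_zero G
  | succ p =>
    haveI := h1 p
    obtain ⟨α, β, -, hβ, hr, hβe⟩ := LimSES27.exists_ses G hq he p
    have hker : ∀ x, β x = 0 → x = 0 := fun x hx => by
      obtain ⟨c, rfl⟩ := hr.ge (AddMonoidHom.mem_ker.2 hx)
      rw [Subsingleton.elim c 0, map_zero]
    have hβc : ∀ x, (β x : ∀ n, Coh.HH X (G.obj (op n)) (p + 1)) = limComp G (p + 1) x := fun x =>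
      funext fun n => hβe x n
    refine ⟨(injective_iff_map_eq_zero _).2 fun x hx => hker x (Subtype.ext ((hβc x).trans hx)),
      fun y hy => ?_⟩
    have hy0 : y ∈ Formal2.limZero (fun n => Coh.HH X (G.obj (op n)) (p + 1)) (Formal2.HHsysMap G (p + 1)) := by
      refine funext fun n => ?_
      show y n - _ = 0
      rw [sub_eq_zero]
      exact (hy n).symm
    obtain ⟨x, hx⟩ := hβ ⟨y, hy0⟩
    exact ⟨x, (hβc x).symm.trans (congrArg Subtype.val hx)⟩

/-- Cohomology of a module on a formal scheme over `Y` is that of its direct image. -/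
theorem hf_push {Y : Scheme.{u}} (𝔛 : FSch.Sys.{u}) (h : 𝔛.IsFormal) (p : ∀ n, 𝔛.X n ⟶ Y)
    (hp : ∀ n, 𝔛.ι n ≫ p (n + 1) = p n) [IsClosedImmersion (p 0)] (𝔉 : FSch.ModF 𝔛 h) (n : ℕ) :
    Nonempty (FSch.HF 𝔛 h 𝔉 n ≃+ Coh.HH Y ((FSch.toSchemeMor 𝔛 h p hp).push.obj 𝔉) n) := by
  have hf : Topology.IsClosedEmbedding (p 0).base := (p 0).isClosedEmbedding
  let Φ : CohTop.Ab (𝔛.X 0).toPresheafedSpace.carrier := ModSite.toAb 𝔉
  exact push_compare_H (p 0).base Φ
    (locallyAcyclic_of_isZero_Rpush (p 0).base Φ fun q => isZero_Rpush_of_isClosedEmbedding (p 0).base hf Φ q) n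

/-- Coherent modules on locally Noetherian schemes are finitely presented. -/
theorem isFinitePresentation_coh [IsLocallyNoetherian X] {F : X.Modules} (hF : Coh.IsCoh F) :
    F.IsFinitePresentation := by
  haveI : F.IsQuasicoherent := hF.1
  haveI : F.IsFiniteType := hF.2
  choose U hUa hU hle using fun x : X => exists_isAffineOpen_mem_and_subset (x := x) (U := (⊤ : X.Opens)) trivial
  refine Props58.LocFree.isFP_of_sections F U
    (IsOpenCover.mk (top_le_iff.mp fun y _ => Opens.mem_iSup.mpr ⟨y, hU y⟩)) hUa fun x => ?_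
  haveI : IsNoetherianRing Γ(X, U x) := IsLocallyNoetherian.component_noetherian ⟨U x, hUa x⟩
  haveI := QC70.finite_sections_of_isFiniteType F (hUa x)
  exact Module.finitePresentation_of_finite _ _

end Groth.Agent.FmlFun27
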