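import Groth.Agent.FmlFun27.Algz
import Groth.Agent.QCPull72.Support
import Groth.Agent.S13336

/-!
Completion is conservative over a complete base for closed morphisms.
-/

set_option autoImplicit false
set_option maxSynthPendingDepth 6
set_option backward.isDefEq.respectTransparency false
set_option linter.style.haveILetI false

universe u

noncomputable section

open CategoryTheory CategoryTheory.Limits AlgebraicGeometry TopologicalSpace Opposite

namespace Groth.Agent.FmlFun27

/-- A closed set avoiding the closed fibres of a closed map to a complete base is empty. -/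
theorem eq_empty_of_closedMap {A : Type u} [CommRing A] (I : Ideal A) [IsAdicComplete I A] {X : Scheme.{u}}
    (f : X ⟶ Spec (CommRingCat.of A)) (hf : IsClosedMap f.base) {C : Set X}
    (hC : IsClosed C) (h : ∀ x ∈ C, x ∉ ((FSch.idealSpec A I).comap f).support) : C = ∅ := by
  rw [Set.eq_empty_iff_forall_notMem]
  intro x hx
  obtain ⟨m, hm, hle⟩ := Ideal.exists_le_maximal _ (f x).2.ne_top
  have hI : I ≤ m := (IsAdicComplete.le_jacobson_bot I).trans (sInf_le ⟨bot_le, hm⟩)
  let y : (Spec (CommRingCat.of A) : Scheme.{u}) := (⟨m, hm.isPrime⟩ : PrimeSpectrum A)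
  have hy : y ∈ f '' C := by
    have hcl : IsClosed (f '' C) := hf _ hC
    have hsp : (f x : PrimeSpectrum A) ⤳ (⟨m, hm.isPrime⟩ : PrimeSpectrum A) :=
      (PrimeSpectrum.le_iff_specializes _ _).1 hle
    exact Specializes.mem_closed hsp hcl ⟨x, hx, rfl⟩
  obtain ⟨z, hz, hzy⟩ := hy
  refine h z hz ?_
  rw [Scheme.IdealSheafData.support_comap]
  change f z ∈ (FSch.idealSpec A I).support
  rw [hzy, FSch.idealSpec]
  change y ∈ ((Spec.map (CommRingCat.ofHom (Ideal.Quotient.mk I))).ker.support : Set _)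
  rw [Scheme.Hom.support_ker]
  refine subset_closure ?_
  have : (⟨m, hm.isPrime⟩ : PrimeSpectrum A) ∈ Set.range (PrimeSpectrum.comap (Ideal.Quotient.mk I)) := by
    rw [_root_.range_comap_of_surjective _ _ Ideal.Quotient.mk_surjective]
    simpa [PrimeSpectrum.mem_zeroLocus, Ideal.mk_ker] using hI
  exact this

variable {X : Scheme.{u}} [IsLocallyNoetherian X] (𝓘 : X.IdealSheafData)
  (hX : (FSch.completionAlong X 𝓘).IsFormal)

/-- A coherent module with zero completion has support away from the closed subset. -/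
theorem notMem_support_of_isZero {K : X.Modules} (hK : Coh.IsCoh K) (hz : IsZero ((complPull 𝓘 hX).obj K))
    (x : X) (hx : x ∈ CohB1.support K) : x ∉ 𝓘.support := by
  intro hxs
  haveI := hK.1
  haveI := hK.2
  obtain ⟨e, -⟩ := exists_complIso 𝓘 hX
  let L := FSch.levelMor (FSch.completionAlong X 𝓘) hX 0
  have hz1 : IsZero (L.pull.obj ((FSch.complMod 𝓘 K).realMod hX)) := by
    haveI : L.pull.IsLeftAdjoint := ⟨_, ⟨L.adj⟩⟩
    exact L.pull.map_isZero (hz.of_iso (e ⟨K, hK⟩).symm)
  haveI : IsIso ((L.adj.homEquiv _ _).symm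
      (FSch.realProj (FSch.completionAlong X 𝓘) hX (FSch.complMod 𝓘 K).F (FSch.complMod 𝓘 K).toPush 0)) :=
    S13336.result (FSch.completionAlong X 𝓘) (S3854.result X 𝓘) (FSch.complMod 𝓘 K)
      (fun k => E4O.isCoh_pullback (FSch.completionToX X 𝓘 k) K hK) 0
  have hz2 : IsZero ((Scheme.Modules.pullback (FSch.completionToX X 𝓘 0)).obj K) :=
    hz1.of_iso (asIso ((L.adj.homEquiv _ _).symm
      (FSch.realProj (FSch.completionAlong X 𝓘) hX (FSch.complMod 𝓘 K).F (FSch.complMod 𝓘 K).toPush 0))).symm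
  have hx0 : x ∈ Set.range (𝓘 ^ (0 + 1)).subschemeι := by
    rw [Scheme.IdealSheafData.range_subschemeι, zero_add, pow_one]
    exact hxs
  obtain ⟨z, hzx⟩ := hx0
  have hsup : z ∈ CohB1.support ((Scheme.Modules.pullback (FSch.completionToX X 𝓘 0)).obj K) := by
    rw [QCPull72.support_pullback]
    show (FSch.completionToX X 𝓘 0) z ∈ CohB1.support K
    exact hzx.symm ▸ hx
  refine hsup ?_
  refine subsingleton_of_forall_eq 0 fun a => ?_
  rw [← QC70.stalkMapM_id z a, (IsZero.iff_id_eq_zero _).1 hz2]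
  exact QC70.stalkMapM_zero z a

/-- Over a complete base and for a closed map, a coherent module with zero completion is zero. -/
theorem isZero_of_isZero_complPull {A : Type u} [CommRing A] (J : Ideal A) [IsAdicComplete J A]
    (f : X ⟶ Spec (CommRingCat.of A)) (hf : IsClosedMap f.base) (h𝓘 : 𝓘 = (FSch.idealSpec A J).comap f)
    {K : X.Modules} (hK : Coh.IsCoh K) (hz : IsZero ((complPull 𝓘 hX).obj K)) : IsZero K := by
  haveI := hK.2
  exact QC70.isZero_of_support_eq_empty (eq_empty_of_closedMap J f hf (QC70.isClosed_support K)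
    fun x hx => h𝓘 ▸ notMem_support_of_isZero 𝓘 hX hK hz x hx)

/-- Completion detects monomorphisms and epimorphisms for closed maps to a complete base. -/
theorem mono_epi_iff {A : Type u} [CommRing A] (J : Ideal A) [IsAdicComplete J A]
    (f : X ⟶ Spec (CommRingCat.of A)) (hf : IsClosedMap f.base) (h𝓘 : 𝓘 = (FSch.idealSpec A J).comap f)
    {F G : X.Modules} (hF : Coh.IsCoh F) (hG : Coh.IsCoh G) (u : F ⟶ G) :
    (Mono (FSch.ModSys.realModMap hX (FSch.complModMap 𝓘 u)) ↔ Mono u) ∧
      (Epi (FSch.ModSys.realModMap hX (FSch.complModMap 𝓘 u)) ↔ Epi u) := by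
  obtain ⟨e, he⟩ := exists_complIso 𝓘 hX
  obtain ⟨hL, hR⟩ := exact_complPull 𝓘 hX
  haveI := hL
  haveI := hR
  obtain ⟨⟨k⟩, -, ⟨c⟩⟩ := exact_functor_ops (complPull 𝓘 hX) u _ (e ⟨F, hF⟩) (e ⟨G, hG⟩) (he ⟨F, hF⟩ ⟨G, hG⟩ u)
  haveI : (complPull 𝓘 hX).IsLeftAdjoint := ⟨_, ⟨(FSch.toSchemeMor (FSch.completionAlong X 𝓘) hX
    (FSch.completionToX X 𝓘) (FSch.completionToX_comm X 𝓘)).adj⟩⟩
  refine ⟨⟨fun h => ?_, fun h => ?_⟩, ⟨fun h => ?_, fun h => ?_⟩⟩
  · exact Preadditive.mono_of_isZero_kernel _ (isZero_of_isZero_complPull 𝓘 hX J f hf h𝓘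
      (QC70.isCoh_kernel u hF hG.1) ((isZero_kernel_of_mono _).of_iso k.symm))
  · exact Preadditive.mono_of_isZero_kernel _ (((complPull 𝓘 hX).map_isZero (isZero_kernel_of_mono u)).of_iso k)
  · exact Preadditive.epi_of_isZero_cokernel _ (isZero_of_isZero_complPull 𝓘 hX J f hf h𝓘
      (QC70.isCoh_cokernel u hF.1 hG) ((isZero_cokernel_of_epi _).of_iso c.symm))
  · exact Preadditive.epi_of_isZero_cokernel _ (((complPull 𝓘 hX).map_isZero (isZero_cokernel_of_epi u)).of_iso c)

end Groth.Agent.FmlFun27
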