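import Groth.Agent.FmlFun27.Tower
import Groth.Agent.FmlFun27.Conserv
import Groth.Agent.S0799
import Groth.Agent.S13335

/-!
Grothendieck existence in terms of coherent modules on the completion.
-/

set_option autoImplicit false
set_option maxSynthPendingDepth 6
set_option backward.isDefEq.respectTransparency false
set_option linter.style.haveILetI false

universe u

noncomputable section

open CategoryTheory CategoryTheory.Limits AlgebraicGeometry TopologicalSpace Opposite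

namespace Groth.Agent.FmlFun27

open QC70

/-- Counit of a closed immersion. -/
theorem isIso_counit_closed' {Z X : Scheme.{u}} (i : Z ⟶ X) [IsClosedImmersion i] (N : Z.Modules) :
    IsIso ((Scheme.Modules.pullbackPushforwardAdjunction i).counit.app N) := by
  haveI := GSS45.ClosedHom.full_pushforward i
  haveI := QC70.faithful_pushforward i
  infer_instance

/-- The adjunct of an isomorphism following the unit is an isomorphism. -/
theorem isIso_transpose {C D : Type*} [Category C] [Category D] {L : C ⥤ D} {R : D ⥤ C} (adj : L ⊣ R)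
    {M : C} {N : D} [IsIso (adj.counit.app N)] [IsIso (adj.counit.app (L.obj M))]
    (e : R.obj (L.obj M) ≅ R.obj N) : IsIso ((adj.homEquiv _ _).symm (adj.unit.app M ≫ e.hom)) := by
  haveI : IsIso (L.map (adj.unit.app M)) := by
    have h : L.map (adj.unit.app M) ≫ adj.counit.app (L.obj M) = 𝟙 (L.obj M) := adj.left_triangle_components M
    haveI : IsIso (L.map (adj.unit.app M) ≫ adj.counit.app (L.obj M)) := by
      rw [h]
      exact IsIso.id _
    exact IsIso.of_isIso_comp_right _ (adj.counit.app (L.obj M))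
  rw [Adjunction.homEquiv_counit, L.map_comp]
  infer_instance

section Gen

variable {A : Type u} [CommRing A] [IsNoetherianRing A] {X : Scheme.{u}} [X.Over (Spec (CommRingCat.of A))]
  {I : Ideal A} {𝔛 : FSch.Sys.{u}} (hX : 𝔛.IsFormal) (p : ∀ n, 𝔛.X n ⟶ X)
  (hp : ∀ n, 𝔛.ι n ≫ p (n + 1) = p n) (𝔐 : FSch.ModSys 𝔛) (M : X.Modules)
  (ψ : Formal.completion I M ⟶ pushTower hX p hp 𝔐)

/-- The maps to the levels of a module with a map from its completion. -/
abbrev towerMap (k : ℕ) : M ⟶ (Scheme.Modules.pushforward (p k)).obj (𝔐.F k) :=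
  Formal.modPowπ I (k + 1) M ≫ ψ.app (op k)

omit [IsNoetherianRing A] in
theorem cmpCompat_towerMap : FCompl13.CmpCompat 𝔛 hX p hp 𝔐 (towerMap hX p hp 𝔐 M ψ) := fun k U m => by
  have hG : towerMap hX p hp 𝔐 M ψ (k + 1) ≫ pushTrans hX p hp 𝔐 k = towerMap hX p hp 𝔐 M ψ k := by
    have h := ψ.naturality (homOfLE (Nat.le_succ k)).op
    rw [pushTower_map hX p hp 𝔐 k] at h
    refine (Category.assoc _ _ _).trans ((congrArg (Formal.modPowπ I (k + 1 + 1) M ≫ ·) h.symm).trans ?_)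
    refine (Category.assoc _ _ _).symm.trans (congrArg (· ≫ ψ.app (op k)) ?_)
    rw [show (Formal.completion I M).map (homOfLE (Nat.le_succ k)).op = Formal.modPowTrans I (k + 1) M from
      Functor.ofOpSequence_map_homOfLE_succ _ k]
    exact Formal.modPowπ_trans I (k + 1) M
  let y : Γ(𝔐.F (k + 1), p (k + 1) ⁻¹ᵁ U) := (towerMap hX p hp 𝔐 M ψ (k + 1)).app U m
  have h1 : (pushTrans hX p hp 𝔐 k).app U y = (towerMap hX p hp 𝔐 M ψ k).app U m :=
    congrArg (fun φ => (Scheme.Modules.Hom.app φ U) m) hG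
  show res (𝔐.F k) (𝔛.lvU_le hX k _) ((𝔐.toPush k).app _ (res (𝔐.F (k + 1)) _ y)) = _
  rw [app_res]
  refine Eq.trans ?_ (congrArg (res (𝔐.F k) (FSch.lvU_p 𝔛 hX p hp k U).ge)
    ((pushTrans_app hX p hp 𝔐 k U y).symm.trans h1))
  refine Eq.trans (res_res (Scheme.Hom.preimage_mono (𝔛.ι k) (FSch.lvU_p 𝔛 hX p hp (k + 1) U).ge)
    (𝔛.lvU_le hX k _) _) ?_
  exact (res_res (preimage_level p hp k U).le (FSch.lvU_p 𝔛 hX p hp k U).ge _).symm

end Gen

section Exist

variable {A : Type u} [CommRing A] [IsNoetherianRing A] (J : Ideal A) [IsAdicComplete J A]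
  {X : Scheme.{u}} (f : X ⟶ Spec (CommRingCat.of A)) [IsSeparated f] [LocallyOfFiniteType f] [QuasiCompact f]
  (𝓘 : X.IdealSheafData) (h𝓘 : 𝓘 = (FSch.idealSpec A J).comap f)
  (hX : (FSch.completionAlong X 𝓘).IsFormal)

/-- The smallest level of a module on the completion, pushed to `X`. -/
abbrev lev0 (𝔉 : FSch.ModF (FSch.completionAlong X 𝓘) hX) : X.Modules :=
  (Scheme.Modules.pushforward (FSch.completionToX X 𝓘 0)).obj
    ((FSch.levelMor (FSch.completionAlong X 𝓘) hX 0).pull.obj 𝔉)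

include h𝓘 in
/-- A coherent module on the completion whose smallest level has proper support is algebraizable. -/
theorem exists_algebraization (𝔉 : FSch.ModF (FSch.completionAlong X 𝓘) hX) (h𝔉 : FSch.IsCohF _ hX 𝔉)
    (hs : ClSub.IsProperOver f (CohB1.support (lev0 𝓘 hX 𝔉))) :
    ∃ G : X.Modules, Coh.IsCoh G ∧ ClSub.IsProperOver f (CohB1.support G) ∧
      Nonempty (𝔉 ≅ (FSch.complMod 𝓘 G).realMod hX) := by
  letI : X.Over (Spec (CommRingCat.of A)) := ⟨f⟩
  haveI : LocallyOfFiniteType (X ↘ Spec (CommRingCat.of A)) := ‹_›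
  haveI : QuasiCompact (X ↘ Spec (CommRingCat.of A)) := ‹_›
  haveI : IsSeparated (X ↘ Spec (CommRingCat.of A)) := ‹_›
  haveI : IsLocallyNoetherian X := LocallyOfFiniteType.isLocallyNoetherian f
  let 𝔛 := FSch.completionAlong X 𝓘
  let p := FSch.completionToX X 𝓘
  have hp := FSch.completionToX_comm X 𝓘
  have h𝔛 := S3854.result X 𝓘
  haveI : ∀ n, IsClosedImmersion (p n) := fun n => inferInstanceAs (IsClosedImmersion ((𝓘 ^ (n + 1)).subschemeι))
  obtain ⟨𝔐, h𝔐, ⟨e⟩⟩ := S13335.result 𝔛 h𝔛 𝔉 h𝔉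
  have hi0 : IsIso (((FSch.levelMor 𝔛 hX 0).adj.homEquiv _ _).symm (FSch.realProj 𝔛 hX 𝔐.F 𝔐.toPush 0)) :=
    S13336.result 𝔛 h𝔛 𝔐 h𝔐 0
  let e0 : (FSch.levelMor 𝔛 hX 0).pull.obj 𝔉 ≅ 𝔐.F 0 :=
    (FSch.levelMor 𝔛 hX 0).pull.mapIso e ≪≫ @asIso _ _ _ _ (((FSch.levelMor 𝔛 hX 0).adj.homEquiv _ _).symm
      (FSch.realProj 𝔛 hX 𝔐.F 𝔐.toPush 0)) hi0
  have hG := isCohFormal_pushTower J 𝓘 h𝓘 hX p hp 𝔐 (fun n => Scheme.IdealSheafData.ker_subschemeι _) h𝔐
  have hs' : ClSub.IsProperOver (X ↘ Spec (CommRingCat.of A))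
      (CohB1.support ((pushTower hX p hp 𝔐).obj (op 0))) := by
    have e1 : lev0 𝓘 hX 𝔉 ≅ (pushTower hX p hp 𝔐).obj (op 0) := (Scheme.Modules.pushforward (p 0)).mapIso e0
    haveI := (hG.1 0).2
    exact Coh69.PO.mono hs (isClosed_support _) (mem_support_of_mono e1.inv)
  obtain ⟨M, hM, hMs, ⟨ψ⟩⟩ := S0799.result A J X (pushTower hX p hp 𝔐) hG hs'
  refine ⟨M, hM, hMs, ?_⟩
  haveI := hM.1
  haveI := isFinitePresentation_coh hM
  have hlev : ∀ k, IsIso (((Scheme.Modules.pullbackPushforwardAdjunction (p k)).homEquiv _ _).symm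
      (towerMap hX p hp 𝔐 M ψ.hom k)) := fun k => by
    obtain ⟨a, ha⟩ := exists_levIso J 𝓘 h𝓘 M k
    have h1 : towerMap hX p hp 𝔐 M ψ.hom k =
        (Scheme.Modules.pullbackPushforwardAdjunction (p k)).unit.app M ≫
          (a.symm ≪≫ (show Formal.modPow J (k + 1) M ≅ (Scheme.Modules.pushforward (p k)).obj (𝔐.F k) from
            ψ.app (op k))).hom := by
      rw [Iso.trans_hom, ← Category.assoc]
      refine congrArg (· ≫ ψ.hom.app (op k)) ?_
      exact ((Iso.comp_inv_eq _).2 ha.symm).symm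
    rw [h1]
    haveI := isIso_counit_closed' (p k) (𝔐.F k)
    haveI := isIso_counit_closed' (p k) ((Scheme.Modules.pullback (p k)).obj M)
    exact isIso_transpose _ _
  obtain ⟨eM, -⟩ := FCompl13.exists_schPull_iso 𝔛 hX p hp 𝔐 h𝔛
    (cmpCompat_towerMap hX p hp 𝔐 M ψ.hom) hlev
  obtain ⟨ec, -⟩ := exists_complIso 𝓘 hX
  exact ⟨e ≪≫ eM.symm ≪≫ ec ⟨M, hM⟩⟩

end Exist

end Groth.Agent.FmlFun27
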