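import Groth.Agent.FmlFun27.Exist

/-!
Algebraizable modules on the completion are closed under extensions.
-/

set_option autoImplicit false
set_option maxSynthPendingDepth 6
set_option backward.isDefEq.respectTransparency false
set_option linter.style.haveILetI false

universe u

noncomputable section

open CategoryTheory CategoryTheory.Limits AlgebraicGeometry TopologicalSpace Opposite

namespace Groth.Agent.FmlFun27

open QC70

/-- The support of the middle term of an exact sequence. -/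
theorem support_middle_subset {X : Scheme.{u}} (S : ShortComplex X.Modules) (hS : S.Exact) :
    CohB1.support S.X₂ ⊆ CohB1.support S.X₁ ∪ CohB1.support S.X₃ := by
  intro x hx
  by_contra h
  rw [Set.mem_union, not_or, notMem_support_iff, notMem_support_iff] at h
  refine hx (subsingleton_of_forall_eq 0 fun e => ?_)
  let T := ShortComplex.mk (kernel.ι S.g) S.g (kernel.condition S.g)
  have hT : T.Exact := ShortComplex.exact_of_f_is_kernel _ (kernelIsKernel _)
  obtain ⟨d, hd⟩ := stalkMapM_exact T hT x e (h.2.elim _ _)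
  haveI : Epi (kernel.lift S.g S.f S.zero) := by
    exact S.exact_iff_epi_kernel_lift.1 hS
  obtain ⟨a, ha⟩ := surjective_stalkMapM_of_epi (kernel.lift S.g S.f S.zero) x d
  rw [← hd, ← ha, h.1.elim a 0]
  rw [← stalkMapM_comp, kernel.lift_ι]
  exact map_zero ((TopCat.Presheaf.stalkFunctor AddCommGrpCat.{u} x).map
    ((Scheme.Modules.toPresheaf X).map S.f)).hom

variable {A : Type u} [CommRing A] [IsNoetherianRing A] (J : Ideal A) [IsAdicComplete J A]
  {X : Scheme.{u}} (f : X ⟶ Spec (CommRingCat.of A)) [IsSeparated f] [LocallyOfFiniteType f] [QuasiCompact f]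
  (𝓘 : X.IdealSheafData) (h𝓘 : 𝓘 = (FSch.idealSpec A J).comap f)
  (hX : (FSch.completionAlong X 𝓘).IsFormal)

omit [IsNoetherianRing A] [IsSeparated f] [QuasiCompact f] in
/-- The smallest level of a completed module has proper support. -/
theorem isProperOver_lev0 [IsLocallyNoetherian X] {𝔉 : FSch.ModF (FSch.completionAlong X 𝓘) hX} {G : X.Modules}
    (hG : Coh.IsCoh G) (hs : ClSub.IsProperOver f (CohB1.support G))
    (e : 𝔉 ≅ (FSch.complMod 𝓘 G).realMod hX) : ClSub.IsProperOver f (CohB1.support (lev0 𝓘 hX 𝔉)) := by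
  let p := FSch.completionToX X 𝓘 0
  haveI : IsClosedImmersion p := inferInstanceAs (IsClosedImmersion ((𝓘 ^ (0 + 1)).subschemeι))
  have hc : ∀ k, Coh.IsCoh ((FSch.complMod 𝓘 G).F k) := fun k => E4O.isCoh_pullback _ G hG
  have hi0 : IsIso (((FSch.levelMor (FSch.completionAlong X 𝓘) hX 0).adj.homEquiv _ _).symm
      (FSch.realProj (FSch.completionAlong X 𝓘) hX (FSch.complMod 𝓘 G).F (FSch.complMod 𝓘 G).toPush 0)) :=
    S13336.result (FSch.completionAlong X 𝓘) (S3854.result X 𝓘) (FSch.complMod 𝓘 G) hc 0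
  let e0 : lev0 𝓘 hX 𝔉 ≅ (Scheme.Modules.pushforward p).obj ((Scheme.Modules.pullback p).obj G) :=
    (Scheme.Modules.pushforward p).mapIso ((FSch.levelMor (FSch.completionAlong X 𝓘) hX 0).pull.mapIso e ≪≫
      @asIso _ _ _ _ (((FSch.levelMor (FSch.completionAlong X 𝓘) hX 0).adj.homEquiv _ _).symm
        (FSch.realProj (FSch.completionAlong X 𝓘) hX (FSch.complMod 𝓘 G).F (FSch.complMod 𝓘 G).toPush 0)) hi0)
  haveI := hG.1
  haveI := hG.2
  haveI : ((Scheme.Modules.pullback p).obj G).IsFiniteType := (hc 0).2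
  haveI : IsLocallyNoetherian X := inferInstance
  have hP : Coh.IsCoh ((Scheme.Modules.pushforward p).obj ((Scheme.Modules.pullback p).obj G)) :=
    QC70.isCoh_pushforward p _ (hc 0)
  haveI := hP.2
  haveI := (isCoh_of_iso e0.symm hP).2
  refine Coh69.PO.mono hs (isClosed_support _) ((mem_support_of_mono e0.hom).trans ?_)
  intro x hx
  obtain ⟨z, rfl⟩ := support_pushforward_subset p _ hx
  by_contra hxG
  refine hx (subsingleton_of_forall_eq 0 fun t => ?_)
  obtain ⟨W, hzW, s, rfl⟩ := germM_exist t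
  let U : X.Opens := ⟨(CohB1.support G)ᶜ, (isClosed_support G).isOpen_compl⟩
  rw [← germM_res (inf_le_left : W ⊓ U ≤ W) (show p z ∈ W ⊓ U from ⟨hzW, hxG⟩) s]
  refine (congrArg (germM _ (W ⊓ U) (p z) ⟨hzW, hxG⟩) ?_).trans (germM_zero _)
  refine section_ext ((Scheme.Modules.pullback p).obj G) _ _ fun y hy => ?_
  have hsub : Subsingleton (((Scheme.Modules.pullback p).obj G).presheaf.stalk y) := by
    rw [← notMem_support_iff, QCPull72.support_pullback]
    exact hy.2
  let t' : Γ((Scheme.Modules.pullback p).obj G, p ⁻¹ᵁ (W ⊓ U)) :=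
    res ((Scheme.Modules.pushforward p).obj ((Scheme.Modules.pullback p).obj G)) (inf_le_left : W ⊓ U ≤ W) s
  obtain ⟨W', hW', hyW', h0⟩ :=
    germM_eq_zero (M := (Scheme.Modules.pullback p).obj G) (s := t') (hx := hy) (hsub.elim _ _)
  exact ⟨W', hW', hyW', h0.trans (res_zero (M := (Scheme.Modules.pullback p).obj G) hW').symm⟩

include h𝓘 in
/-- Extensions of algebraizable modules are algebraizable. -/
theorem algebraizable_of_exact (S : ShortComplex (FSch.ModF (FSch.completionAlong X 𝓘) hX)) (hS : S.Exact)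
    [Epi S.g] (h₂ : FSch.IsCohF _ hX S.X₂)
    (a₁ : ∃ G : X.Modules, Coh.IsCoh G ∧ ClSub.IsProperOver f (CohB1.support G) ∧
        Nonempty (S.X₁ ≅ (FSch.complMod 𝓘 G).realMod hX))
    (a₃ : ∃ G : X.Modules, Coh.IsCoh G ∧ ClSub.IsProperOver f (CohB1.support G) ∧
        Nonempty (S.X₃ ≅ (FSch.complMod 𝓘 G).realMod hX)) :
    ∃ G : X.Modules, Coh.IsCoh G ∧ ClSub.IsProperOver f (CohB1.support G) ∧
        Nonempty (S.X₂ ≅ (FSch.complMod 𝓘 G).realMod hX) := by
  haveI : IsLocallyNoetherian X := LocallyOfFiniteType.isLocallyNoetherian f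
  refine exists_algebraization J f 𝓘 h𝓘 hX S.X₂ h₂ ?_
  obtain ⟨G₁, hG₁, hp₁, ⟨e₁⟩⟩ := a₁
  obtain ⟨G₃, hG₃, hp₃, ⟨e₃⟩⟩ := a₃
  have p₁ := isProperOver_lev0 f 𝓘 hX hG₁ hp₁ e₁
  have p₃ := isProperOver_lev0 f 𝓘 hX hG₃ hp₃ e₃
  let L := FSch.levelMor (FSch.completionAlong X 𝓘) hX 0
  let p := FSch.completionToX X 𝓘 0
  haveI : IsClosedImmersion p := inferInstanceAs (IsClosedImmersion ((𝓘 ^ (0 + 1)).subschemeι))
  let P : FSch.ModF (FSch.completionAlong X 𝓘) hX ⥤ X.Modules := L.pull ⋙ Scheme.Modules.pushforward p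
  haveI : PreservesFiniteColimits L.pull :=
    haveI : PreservesColimitsOfSize.{0, 0} L.pull := L.adj.leftAdjoint_preservesColimits
    ⟨fun _ _ _ => inferInstance⟩
  haveI := GSS45.ClosedHom.preservesFiniteColimits_pushforward p
  haveI : PreservesFiniteColimits P := comp_preservesFiniteColimits _ _
  haveI : PreservesFiniteCoproducts P := ⟨fun _ => inferInstance⟩
  haveI : PreservesBinaryBiproducts P := preservesBinaryBiproducts_of_preservesBinaryCoproducts P
  haveI : P.Additive := Functor.additive_of_preservesBinaryBiproducts P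
  have hex : (S.map P).Exact ∧ Epi (P.map S.g) := by
    have h : PreservesFiniteColimits P → ∀ (T : ShortComplex (FSch.ModF (FSch.completionAlong X 𝓘) hX)),
        T.Exact ∧ Epi T.g → (T.map P).Exact ∧ Epi (P.map T.g) :=
      ((Functor.preservesFiniteColimits_tfae P).out 3 1 rfl rfl).1
    exact h inferInstance S ⟨hS, inferInstance⟩
  have hq : Coh.IsCoh (P.obj S.X₂) := by
    haveI hfp : FSch.IsCohF _ hX S.X₂ := h₂
    exact QC70.isCoh_pushforward p _ (FCompl13.isCoh_sysOf hX S.X₂ 0)
  haveI : (lev0 𝓘 hX S.X₂).IsFiniteType := hq.2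
  have hu : ClSub.IsProperOver f (CohB1.support (lev0 𝓘 hX S.X₁) ∪ CohB1.support (lev0 𝓘 hX S.X₃)) := by
    have hunion := Coh69.PO.union (f := f) (ι := Bool)
      (Z := fun b => bif b then CohB1.support (lev0 𝓘 hX S.X₁) else CohB1.support (lev0 𝓘 hX S.X₃))
      (fun b => by cases b <;> assumption)
    rwa [← Set.union_eq_iUnion] at hunion
  exact Coh69.PO.mono hu (isClosed_support _) (support_middle_subset (S.map P) hex.1)

end Groth.Agent.FmlFun27
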