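import Groth.Agent.FmlFun27.Push
import Groth.Agent.FmlFun27.Coh
import Groth.Agent.S4473
import Groth.Agent.S13337
import Groth.Agent.E4O.InfDescent

/-!
Completion is fully faithful on coherent modules whose supports meet in a set proper over a complete base.
-/

set_option autoImplicit false
set_option maxSynthPendingDepth 6
set_option backward.isDefEq.respectTransparency false
set_option linter.style.haveILetI false

universe u

noncomputable section

open CategoryTheory CategoryTheory.Limits AlgebraicGeometry TopologicalSpace Opposite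

namespace Groth.Agent.FmlFun27

/-- Transport of full faithfulness along isomorphisms of towers. -/
theorem existsUnique_transport {C : Type*} [Category C] {F G : C} (CF CG P Q : ℕᵒᵖ ⥤ C)
    (α : CF ≅ P) (β : CG ≅ Q) (πF : ∀ k, F ⟶ CF.obj (op k)) (πG : ∀ k, G ⟶ CG.obj (op k))
    (uF : ∀ k, F ⟶ P.obj (op k)) (uG : ∀ k, G ⟶ Q.obj (op k))
    (hα : ∀ k, πF k ≫ α.hom.app (op k) = uF k) (hβ : ∀ k, πG k ≫ β.hom.app (op k) = uG k)
    (ff : ∀ ψ : CF ⟶ CG, ∃! φ : F ⟶ G, ∀ n, πF n ≫ ψ.app (op n) = φ ≫ πG n) (θ : P ⟶ Q) :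
    ∃! φ : F ⟶ G, ∀ k, uF k ≫ θ.app (op k) = φ ≫ uG k := by
  obtain ⟨φ, hφ, huniq⟩ := ff (α.hom ≫ θ ≫ β.inv)
  refine ⟨φ, fun k => ?_, fun φ' h' => huniq φ' fun k => ?_⟩
  · have e := congrArg (· ≫ β.hom.app (op k)) (hφ k)
    simp only [NatTrans.comp_app, Category.assoc, Iso.inv_hom_id_app, Category.comp_id] at e
    rw [← hα k, ← hβ k, Category.assoc, e]
  · have e := congrArg (· ≫ β.inv.app (op k)) (h' k)
    simp only [← hα k, ← hβ k, Category.assoc, Iso.hom_inv_id_app, Category.comp_id] at e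
    rw [NatTrans.comp_app, NatTrans.comp_app]
    exact e

variable {A : Type u} [CommRing A] [IsNoetherianRing A] (I : Ideal A) [IsAdicComplete I A]
  {X : Scheme.{u}} (f : X ⟶ Spec (CommRingCat.of A)) [LocallyOfFiniteType f] [QuasiCompact f]
  (𝓘 : X.IdealSheafData) (h𝓘 : 𝓘 = (FSch.idealSpec A I).comap f)
  (hX : (FSch.completionAlong X 𝓘).IsFormal) (F G : X.Modules) (hF : Coh.IsCoh F) (hG : Coh.IsCoh G)

include h𝓘 hF hG in
/-- Completion is bijective on morphisms. -/
theorem complHom_bijective (hs : ClSub.IsProperOver f (CohB1.support F ∩ CohB1.support G)) :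
    Function.Bijective (fun u : F ⟶ G => FSch.ModSys.realModMap hX (FSch.complModMap 𝓘 u)) := by
  letI : X.Over (Spec (CommRingCat.of A)) := ⟨f⟩
  haveI : LocallyOfFiniteType (X ↘ Spec (CommRingCat.of A)) := ‹_›
  haveI : QuasiCompact (X ↘ Spec (CommRingCat.of A)) := ‹_›
  haveI : IsLocallyNoetherian X := LocallyOfFiniteType.isLocallyNoetherian f
  haveI : F.IsQuasicoherent := hF.1
  haveI : G.IsQuasicoherent := hG.1
  haveI := isFinitePresentation_coh hF
  haveI := isFinitePresentation_coh hG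
  let p := FSch.completionToX X 𝓘
  let c := FSch.schPushCompare (FSch.completionAlong X 𝓘) hX p (FSch.completionToX_comm X 𝓘)
  obtain ⟨α, hα⟩ := exists_towerIso I 𝓘 h𝓘 hX F
  obtain ⟨β, hβ⟩ := exists_towerIso I 𝓘 h𝓘 hX G
  have key : ∀ φ : FSch.complMod 𝓘 F ⟶ FSch.complMod 𝓘 G, ∃! u : F ⟶ G, FSch.complModMap 𝓘 u = φ := by
    intro φ
    let θ : levTower 𝓘 hX F ⟶ levTower 𝓘 hX G :=
      Functor.whiskerRight (FSch.levelSysMap (FSch.completionAlong X 𝓘) hX φ.app (FSch.ModSys.Hom.toPush_comm φ))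
        (FSch.toSchemeMor (FSch.completionAlong X 𝓘) hX p (FSch.completionToX_comm X 𝓘)).push
    obtain ⟨u, hu, huniq⟩ := existsUnique_transport _ _ _ _ α β (fun k => Formal.modPowπ I (k + 1) F)
      (fun k => Formal.modPowπ I (k + 1) G) _ _ hα hβ
      (Groth.Agent.S4473.result A I X F G hF hG hs) θ
    have hnat : ∀ (k : ℕ) (v : F ⟶ G),
        ((Scheme.Modules.pullbackPushforwardAdjunction (p k)).unit.app F ≫ (c k).app ((FSch.complMod 𝓘 F).F k)) ≫
            θ.app (op k) =
          v ≫ (Scheme.Modules.pullbackPushforwardAdjunction (p k)).unit.app G ≫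
            (c k).app ((FSch.complMod 𝓘 G).F k) ↔
        φ.app k = (Scheme.Modules.pullback (p k)).map v := by
      intro k v
      haveI : IsIso ((c k).app ((FSch.complMod 𝓘 G).F k)) :=
        FCompl13.isIso_schPushCompare_app (FSch.completionAlong X 𝓘) hX p (FSch.completionToX_comm X 𝓘) k _
      let adj := Scheme.Modules.pullbackPushforwardAdjunction (p k)
      have h1 : ((Scheme.Modules.pullbackPushforwardAdjunction (p k)).unit.app F ≫ (c k).app ((FSch.complMod 𝓘 F).F k)) ≫
            θ.app (op k) =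
          (adj.homEquiv _ _ (φ.app k)) ≫ (c k).app ((FSch.complMod 𝓘 G).F k) := by
        rw [Adjunction.homEquiv_unit]
        refine (Category.assoc _ _ _).trans (Eq.trans ?_ (Category.assoc _ _ _).symm)
        exact congrArg (adj.unit.app F ≫ ·) ((c k).naturality (φ.app k)).symm
      have h2 : v ≫ (Scheme.Modules.pullbackPushforwardAdjunction (p k)).unit.app G =
          adj.homEquiv _ _ ((Scheme.Modules.pullback (p k)).map v) := by
        rw [Adjunction.homEquiv_unit]
        exact adj.unit.naturality v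
      rw [h1, ← Category.assoc v, h2, cancel_mono]
      exact (adj.homEquiv _ _).injective.eq_iff
    refine ⟨u, ?_, fun v hv => huniq v fun k => (hnat k v).2 ?_⟩
    · exact FSch.ModSys.Hom.ext (funext fun k => ((hnat k u).1 (hu k)).symm)
    · rw [← hv]
      rfl
  obtain ⟨hi, hsur⟩ := Groth.Agent.S13337.result (FSch.completionAlong X 𝓘) (S3854.result X 𝓘)
    (FSch.complMod 𝓘 F) (FSch.complMod 𝓘 G)
    (fun k => E4O.isCoh_pullback (p k) F hF) (fun k => E4O.isCoh_pullback (p k) G hG)
  refine ⟨fun u v e => ?_, fun θ => ?_⟩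
  · exact (key (FSch.complModMap 𝓘 v)).unique (hi e) rfl
  · obtain ⟨φ, hφ⟩ := hsur θ
    obtain ⟨u, hu, -⟩ := key φ
    exact ⟨u, (congrArg (FSch.ModSys.realModMap hX) hu).trans hφ⟩

end Groth.Agent.FmlFun27
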