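import Groth.Agent.Coh69.ProperOver
import Groth.Agent.QC70.PushClosed

/-!
Support of a direct image along a proper morphism.
-/

set_option autoImplicit false

universe u

noncomputable section

open CategoryTheory AlgebraicGeometry TopologicalSpace Opposite

namespace Groth.Agent.FmlFun27

open QC70

/-- The support of a direct image lies in the image of the support, if the latter is closed. -/
theorem support_push_subset {X Z : Scheme.{u}} (g : Z ⟶ X) (G : Z.Modules)
    (hc : IsClosed (⇑g '' CohB1.support G)) :
    CohB1.support ((Scheme.Modules.pushforward g).obj G) ⊆ ⇑g '' CohB1.support G := by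
  intro x hx
  by_contra hxi
  refine hx (subsingleton_of_forall_eq 0 fun e => ?_)
  obtain ⟨W, hxW, s, rfl⟩ := germM_exist e
  let V : X.Opens := ⟨(⇑g '' CohB1.support G)ᶜ, hc.isOpen_compl⟩
  have hxV : x ∈ W ⊓ V := ⟨hxW, hxi⟩
  rw [← germM_res (inf_le_left : W ⊓ V ≤ W) hxV s]
  refine (congrArg (germM _ (W ⊓ V) x hxV) ?_).trans (germM_zero hxV)
  refine section_ext G _ _ fun p hp => ?_
  have hs : Subsingleton (G.presheaf.stalk p) := by
    by_contra hn
    exact hp.2 ⟨p, hn, rfl⟩
  let t : Γ(G, g ⁻¹ᵁ (W ⊓ V)) := res ((Scheme.Modules.pushforward g).obj G) (inf_le_left : W ⊓ V ≤ W) s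
  obtain ⟨W', hW', hpW', h0⟩ := germM_eq_zero (M := G) (s := t) (hx := hp) (hs.elim _ _)
  exact ⟨W', hW', hpW', h0.trans (res_zero (M := G) hW').symm⟩

/-- The direct image of a module with support proper over the base has support proper over the base. -/
theorem isProperOver_support_push {X Z S : Scheme.{u}} (f : X ⟶ S) [LocallyOfFiniteType f] (h : Z ⟶ S)
    (g : Z ⟶ X) (hg : g ≫ f = h) [IsProper g] (G : Z.Modules)
    (hG : ClSub.IsProperOver h (CohB1.support G))
    (hC : IsClosed (CohB1.support ((Scheme.Modules.pushforward g).obj G))) :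
    ClSub.IsProperOver f (CohB1.support ((Scheme.Modules.pushforward g).obj G)) := by
  have h1 : ClSub.IsProperOver f (⇑g '' CohB1.support G) :=
    Coh69.PO.image g hg hG fun R i hi hp => inferInstance
  exact Coh69.PO.mono h1 hC (support_push_subset g G h1.choose)

end Groth.Agent.FmlFun27
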